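import Cfsg.Agent.Omega.MinFF.FFStep
import Cfsg.Agent.Lib.ProductSet

/-!
# OMEGA / SQ0: the K-free FF-theorem for minimal parabolics, PART 1: the FF-step
-/

set_option autoImplicit false
set_option linter.unusedSectionVars false

open Subgroup
open scoped Pointwise
open Cfsg.Agent.ClassTwoFusion.Quad (cv d mem_cv)

namespace Cfsg.Agent.Omega.MinFF

variable {X : Type*} [Group X] {V : Type*} [CommGroup V] [MulDistribMulAction X V]

theorem card_sup_mul_inf {G : Type*} [CommGroup G] [Finite G] (P Q : Subgroup G) :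
    Nat.card (P ⊔ Q : Subgroup G) * Nat.card (P ⊓ Q : Subgroup G) = Nat.card P * Nat.card Q := by
  rw [← Cfsg.Agent.Lib.ProductSet.card_mul_card_inf P Q]
  congr 1
  have h1 : ((P ⊔ Q : Subgroup G) : Set G) = (P : Set G) * (Q : Set G) := Subgroup.mul_normal P Q
  exact congrArg Nat.card (congrArg Set.Elem h1)

/-- the hypotheses of the FF step -/
structure FFHyp (V : Type*) [CommGroup V] [MulDistribMulAction X V] (A X₁ : Subgroup X) : Prop extends TI A X₁ where
  sq : ∀ v : V, v * v = 1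
  faith : ∀ x : X, (∀ v : V, x • v = v) → x = 1
  quad : ∀ a ∈ A, ∀ a' ∈ A, ∀ v : V, a' • d a v = d a v
  off : Nat.card V ≤ Nat.card A * Nat.card (cv V (A : Set X))
  str : ∀ A₀ : Subgroup X, A₀ ≤ A → A₀ ≠ ⊥ → A₀ ≠ A →
    Nat.card A₀ * Nat.card (cv V (A₀ : Set X)) < Nat.card A * Nat.card (cv V (A : Set X))
  hz : ∃ z ∈ cv V (A : Set X), z ∈ cv V ((Cfsg.pCore 2 X : Subgroup X) : Set X) ∧ z ∉ CC X V

/-- a homomorphism from `B` to `W / C` -/
theorem card_le_of_hom [Finite X] [Finite V] {B B₀ : Subgroup X} {W C : Subgroup V} (f : B → V)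
    (hf : ∀ a b : B, f (a * b) = f a * f b) (hW : ∀ a, f a ∈ W) (hC : C ≤ W) (hker : ∀ a : B, f a ∈ C → (a : X) ∈ B₀) :
    Nat.card B * Nat.card C ≤ Nat.card (B ⊓ B₀ : Subgroup X) * Nat.card W := by
  let F : B →* W ⧸ C.subgroupOf W :=
    (QuotientGroup.mk' (C.subgroupOf W)).comp (MonoidHom.mk' (fun a => (⟨f a, hW a⟩ : W)) fun a b => by
      apply Subtype.ext
      exact hf a b)
  have h1 : F.ker ≤ B₀.subgroupOf B := by
    intro a ha
    rw [mem_subgroupOf]
    apply hker
    have h2 : (QuotientGroup.mk' (C.subgroupOf W)) (⟨f a, hW a⟩ : W) = 1 := ha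
    rw [← MonoidHom.mem_ker, QuotientGroup.ker_mk', mem_subgroupOf] at h2
    exact h2
  have h2 : Nat.card F.range * Nat.card F.ker = Nat.card B := by
    rw [← index_ker, mul_comm]
    exact F.ker.card_mul_index
  have h3 : Nat.card F.ker ≤ Nat.card (B ⊓ B₀ : Subgroup X) := by
    have h4 : Nat.card (B₀.subgroupOf B) = Nat.card (B ⊓ B₀ : Subgroup X) := by
      rw [inf_comm, ← subgroupOf_map_subtype]
      exact Nat.card_congr ((B₀.subgroupOf B).equivMapOfInjective B.subtype B.subtype_injective).toEquiv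
    rw [← h4]
    exact Nat.card_le_card_of_injective (inclusion h1) (inclusion_injective h1)
  have h4 : Nat.card F.range ≤ Nat.card (W ⧸ C.subgroupOf W) := Nat.card_le_card_of_injective _ Subtype.coe_injective
  have h5 : Nat.card (W ⧸ C.subgroupOf W) * Nat.card C = Nat.card W := by
    have h6 := (C.subgroupOf W).card_eq_card_quotient_mul_card_subgroup
    rw [h6, Nat.card_congr (subgroupOfEquivOfLe hC).toEquiv]
  calc Nat.card B * Nat.card C = Nat.card F.range * Nat.card F.ker * Nat.card C := by rw [h2]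
    _ ≤ Nat.card (W ⧸ C.subgroupOf W) * Nat.card (B ⊓ B₀ : Subgroup X) * Nat.card C :=
        Nat.mul_le_mul_right _ (Nat.mul_le_mul h4 h3)
    _ = Nat.card (B ⊓ B₀ : Subgroup X) * (Nat.card (W ⧸ C.subgroupOf W) * Nat.card C) := by ring
    _ = _ := by rw [h5]

namespace FFHyp

variable {A X₁ : Subgroup X} (h : FFHyp V A X₁)
include h

theorem core_eq [Finite X] [Finite V] : Cfsg.pCore 2 X = ⊥ ∧ Nat.card V = Nat.card A * Nat.card (cv V (A : Set X)) ∧
    Nat.card (cv V (A : Set X)) = Nat.card A * Nat.card (CC X V) := by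
  have hT := h.toTI
  have hsq := h.sq
  set O := Cfsg.pCore 2 X with hO
  have hOn : O.Normal := Lib.Cores.pCore_normal 2
  set U := cv V (A : Set X) with hU
  set C := CC X V with hC
  set Y := cv V (O : Set X) with hY
  obtain ⟨z, hzU, hzY, hzC⟩ := h.hz
  obtain ⟨g, hg⟩ := hT.exists_not_mem
  set W := cv V ((MulAut.conj g • A : Subgroup X) : Set X) with hW
  have hYinv : ∀ (x : X) (v : V), v ∈ Y → x • v ∈ Y := by
    intro x v hv y hy
    have h1 := hv _ (hOn.conj_mem y hy x⁻¹)
    rw [inv_inv] at h1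
    calc y • x • v = x • (x⁻¹ * y * x) • v := by
          rw [smul_smul, smul_smul]
          congr 1
          group
      _ = x • v := by rw [h1]
  have hCU : C ≤ U := CC_le _
  have hCW : C ≤ W := CC_le _
  have hCY : C ≤ Y := CC_le _
  set x := g • z with hx
  have hxW : x ∈ W := smul_mem_cv_cj.2 hzU
  have hxY : x ∈ Y := hYinv g z hzY
  have hxC : x ∉ C := by
    intro hcon
    apply hzC
    have h1 : z = x := by
      have h2 := mem_CC.1 hcon g⁻¹
      rw [hx, inv_smul_smul] at h2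
      rw [hx]
      exact h2
    rw [h1]
    exact hcon
  -- (1)
  have h1 : Nat.card A * Nat.card C ≤ Nat.card (A ⊓ O : Subgroup X) * Nat.card (Y ⊓ U : Subgroup V) := by
    apply card_le_of_hom (fun a => d (a : X) x)
    · intro a b
      exact d_mul_left hsq h.quad a.2 b.2 x
    · intro a
      refine mem_inf.2 ⟨?_, fun b hb => h.quad a a.2 b hb x⟩
      exact mul_mem (hYinv _ _ hxY) hxY
    · exact le_inf hCY hCU
    · intro a ha
      have h2 := hT.mem_of_d_mem hsq hxW hxC ha
      exact hT.inf_le_pCore hsq h.faith h.quad hg (mem_inf.2 ⟨a.2, h2⟩)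
  -- (2)
  have h3 : Nat.card (Y ⊓ W : Subgroup V) = Nat.card (Y ⊓ U : Subgroup V) := by
    refine Nat.card_congr ⟨fun v => ⟨g⁻¹ • (v : V), ?_⟩, fun v => ⟨g • (v : V), ?_⟩, ?_, ?_⟩
    · obtain ⟨h4, h5⟩ := mem_inf.1 v.2
      exact mem_inf.2 ⟨hYinv _ _ h4, mem_cv_cj.1 h5⟩
    · obtain ⟨h4, h5⟩ := mem_inf.1 v.2
      exact mem_inf.2 ⟨hYinv _ _ h4, smul_mem_cv_cj.2 h5⟩
    · intro v
      ext
      exact smul_inv_smul g (v : V)
    · intro v
      ext
      exact inv_smul_smul g (v : V)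
  have hUW : U ⊓ W = C := by
    apply le_antisymm
    · intro v hv
      exact hT.inf_le hg (mem_inf.1 hv).1 (mem_inf.1 hv).2
    · exact le_inf hCU hCW
  have h2 : Nat.card (Y ⊓ U : Subgroup V) * Nat.card (Y ⊓ U : Subgroup V) ≤ Nat.card Y * Nat.card C := by
    have h4 := card_sup_mul_inf (Y ⊓ U) (Y ⊓ W)
    have h5 : (Y ⊓ U) ⊓ (Y ⊓ W) = C := by
      rw [← inf_inf_distrib_left, hUW]
      exact inf_eq_right.2 hCY
    rw [h5, h3] at h4
    rw [← h4]
    have h6 : (Y ⊓ U) ⊔ (Y ⊓ W) ≤ Y := sup_le inf_le_left inf_le_left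
    exact Nat.mul_le_mul_right _ (Nat.card_le_card_of_injective (inclusion h6) (inclusion_injective h6))
  have hCpos : 0 < Nat.card C := Nat.card_pos
  have hYUpos : 0 < Nat.card (Y ⊓ U : Subgroup V) := Nat.card_pos
  have h4 : Nat.card A * Nat.card (Y ⊓ U : Subgroup V) ≤ Nat.card (A ⊓ O : Subgroup X) * Nat.card Y := by
    apply Nat.le_of_mul_le_mul_right _ hCpos
    calc Nat.card A * Nat.card (Y ⊓ U : Subgroup V) * Nat.card C
        = (Nat.card A * Nat.card C) * Nat.card (Y ⊓ U : Subgroup V) := by ring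
      _ ≤ (Nat.card (A ⊓ O : Subgroup X) * Nat.card (Y ⊓ U : Subgroup V)) * Nat.card (Y ⊓ U : Subgroup V) :=
          Nat.mul_le_mul_right _ h1
      _ = Nat.card (A ⊓ O : Subgroup X) * (Nat.card (Y ⊓ U : Subgroup V) * Nat.card (Y ⊓ U : Subgroup V)) := by ring
      _ ≤ Nat.card (A ⊓ O : Subgroup X) * (Nat.card Y * Nat.card C) := Nat.mul_le_mul_left _ h2
      _ = _ := by ring
  have h5 := card_sup_mul_inf Y U
  have h6 : Nat.card A * Nat.card U ≤ Nat.card (A ⊓ O : Subgroup X) * Nat.card (Y ⊔ U : Subgroup V) := by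
    apply Nat.le_of_mul_le_mul_right _ hYUpos
    calc Nat.card A * Nat.card U * Nat.card (Y ⊓ U : Subgroup V)
        = (Nat.card A * Nat.card (Y ⊓ U : Subgroup V)) * Nat.card U := by ring
      _ ≤ (Nat.card (A ⊓ O : Subgroup X) * Nat.card Y) * Nat.card U := Nat.mul_le_mul_right _ h4
      _ = Nat.card (A ⊓ O : Subgroup X) * (Nat.card Y * Nat.card U) := by ring
      _ = Nat.card (A ⊓ O : Subgroup X) * (Nat.card (Y ⊔ U : Subgroup V) * Nat.card (Y ⊓ U : Subgroup V)) := by rw [h5]
      _ = _ := by ring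
  have h7 : A ⊓ O = ⊥ := by
    by_contra hne
    have h8 : A ⊓ O ≠ A := by
      intro e
      exact hT.not_le_pCore (inf_eq_left.1 e)
    have h9 := h.str _ inf_le_left hne h8
    rw [← hU] at h9
    have h10 : Y ⊔ U ≤ cv V ((A ⊓ O : Subgroup X) : Set X) := by
      apply sup_le
      · intro v hv a ha
        exact hv a (mem_inf.1 ha).2
      · intro v hv a ha
        exact hv a (mem_inf.1 ha).1
    have h11 : Nat.card (Y ⊔ U : Subgroup V) ≤ Nat.card (cv V ((A ⊓ O : Subgroup X) : Set X)) :=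
      Nat.card_le_card_of_injective (inclusion h10) (inclusion_injective h10)
    have h12 := Nat.mul_le_mul_left (Nat.card (A ⊓ O : Subgroup X)) h11
    omega
  rw [h7, card_bot, one_mul] at h6 h1
  have h8 : Nat.card (Y ⊔ U : Subgroup V) ≤ Nat.card V := Nat.card_le_card_of_injective _ Subtype.coe_injective
  have h9 := h.off
  rw [← hU] at h9
  have hcV : Nat.card V = Nat.card A * Nat.card U := by omega
  have h10 := card_sup_mul_inf U W
  rw [hUW] at h10
  have h11 : Nat.card W = Nat.card U := card_cv_cj g A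
  rw [h11] at h10
  have h12 : Nat.card (U ⊔ W : Subgroup V) ≤ Nat.card V := Nat.card_le_card_of_injective _ Subtype.coe_injective
  have hUpos : 0 < Nat.card U := Nat.card_pos
  have h13 : Nat.card U ≤ Nat.card A * Nat.card C := by
    apply Nat.le_of_mul_le_mul_right _ hUpos
    calc Nat.card U * Nat.card U = Nat.card (U ⊔ W : Subgroup V) * Nat.card C := h10.symm
      _ ≤ Nat.card V * Nat.card C := Nat.mul_le_mul_right _ h12
      _ = _ := by rw [hcV]; ring
  have h14 : Nat.card (Y ⊓ U : Subgroup V) ≤ Nat.card U :=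
    Nat.card_le_card_of_injective (inclusion inf_le_right) (inclusion_injective _)
  have hcU : Nat.card U = Nat.card A * Nat.card C := by omega
  have h15 : Y ⊓ U = U := by
    apply eq_of_le_of_card_ge inf_le_right
    omega
  have h16 : U ≤ Y := inf_eq_right.1 h15
  have h17 : Y = ⊤ := by
    have h18 : Nat.card (Y ⊔ U : Subgroup V) = Nat.card V := by omega
    rw [sup_eq_left.2 h16] at h18
    exact eq_top_of_card_eq _ h18
  refine ⟨?_, hcV, hcU⟩
  rw [eq_bot_iff]
  intro y hy
  rw [mem_bot]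
  apply h.faith
  intro v
  have h18 : v ∈ Y := by rw [h17]; exact mem_top v
  exact h18 y hy

end FFHyp

end Cfsg.Agent.Omega.MinFF
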