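import Cfsg.Agent.Omega.MinFF.Quad
import Cfsg.Agent.Lib.Cores

/-!
# OMEGA / SQ0: the K-free FF-theorem for minimal parabolics, PART 1: `A ⊓ X₁^g ≤ O₂(X)`, the FF-step

`TI A X₁`, `X` faithful and `A` quadratic on the elementary abelian 2-group `V`.  If `|V| ≤ |A||C_V(A)|`, the proper
subgroups `≠ 1` of `A` are worse, and some element of `C_V(A)` is fixed by `O₂(X)` and not by `X`, then `O₂(X) = 1`,
`|A| = |V : C_V(A)| = |C_V(A) : C_V(X)|`.
-/

set_option autoImplicit false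
set_option linter.unusedSectionVars false

open Subgroup
open scoped Pointwise
open Cfsg.Agent.ClassTwoFusion.Quad (cv d mem_cv)

namespace Cfsg.Agent.Omega.MinFF

variable {X : Type*} [Group X] {V : Type*} [CommGroup V] [MulDistribMulAction X V]

instance quotAct : MulAction.QuotientAction X (CC X V) :=
  ⟨fun x {a a'} h => by
    have e : (x • a)⁻¹ * x • a' = x • (a⁻¹ * a') := by rw [smul_mul', smul_inv']
    rw [e, mem_CC.1 h x]
    exact h⟩

/-- a 2-group fixes a nontrivial element of `U / C` -/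
theorem exists_fix_mod [Finite X] [Finite V] (hsq : ∀ v : V, v * v = 1) {R : Subgroup X} (hR : IsPGroup 2 R)
    {U : Subgroup V} (hU : ∀ x ∈ R, ∀ v ∈ U, x • v ∈ U) {u : V} (hu : u ∈ U) (huC : u ∉ CC X V) :
    ∃ v ∈ U, v ∉ CC X V ∧ ∀ x ∈ R, d x v ∈ CC X V := by
  let S : SubMulAction R (V ⧸ CC X V) :=
    { carrier := (U.map (QuotientGroup.mk' (CC X V)) : Set (V ⧸ CC X V))
      smul_mem' := by
        rintro x _ ⟨v, hv, rfl⟩
        exact ⟨(x : X) • v, hU x x.2 v hv, rfl⟩ }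
  have hcard : 2 ∣ Nat.card S := by
    have h1 : Nat.card S = Nat.card (U.map (QuotientGroup.mk' (CC X V))) := rfl
    rw [h1]
    have h2 : (QuotientGroup.mk' (CC X V)) u ∈ U.map (QuotientGroup.mk' (CC X V)) := ⟨u, hu, rfl⟩
    have h3 : orderOf ((QuotientGroup.mk' (CC X V)) u) = 2 := by
      apply orderOf_eq_prime
      · rw [← map_pow, pow_two, hsq, map_one]
      · intro e
        apply huC
        have : u ∈ (QuotientGroup.mk' (CC X V)).ker := e
        rwa [QuotientGroup.ker_mk'] at this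
    rw [← h3]
    exact Subgroup.orderOf_dvd_natCard _ h2
  have h1S : (1 : V ⧸ CC X V) ∈ S := ⟨1, one_mem _, rfl⟩
  have hfix : (⟨1, h1S⟩ : S) ∈ MulAction.fixedPoints R S := by
    intro x
    apply Subtype.ext
    show ((x : X) • ((1 : V) : V ⧸ CC X V)) = ((1 : V) : V ⧸ CC X V)
    rw [MulAction.Quotient.smul_coe, smul_one]
  obtain ⟨⟨b, hbS⟩, hb, hne⟩ := hR.exists_fixed_point_of_prime_dvd_card_of_fixed_point S hcard hfix
  obtain ⟨v, hv, rfl⟩ := hbS
  refine ⟨v, hv, ?_, ?_⟩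
  · intro hvC
    apply hne
    apply Subtype.ext
    have : v ∈ (QuotientGroup.mk' (CC X V)).ker := by rwa [QuotientGroup.ker_mk']
    exact this.symm
  · intro x hx
    have h1 := congrArg Subtype.val (hb ⟨x, hx⟩)
    have h2 : ((x • v : V) : V ⧸ CC X V) = ((v : V) : V ⧸ CC X V) := h1
    rw [QuotientGroup.eq, inv_eq hsq] at h2
    exact h2

/-- `[v, ab] = [v,a][v,b]` -/
theorem d_mul_left {A : Subgroup X} (hsq : ∀ v : V, v * v = 1)
    (hq : ∀ a ∈ A, ∀ a' ∈ A, ∀ v : V, a' • d a v = d a v) {a b : X} (ha : a ∈ A) (hb : b ∈ A) (v : V) :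
    d (a * b) v = d a v * d b v := by
  have h1 := hq b hb a ha v
  have e : (a * b) • v = a • (d b v * v) := by rw [mul_smul, smul_eq hsq b v]
  unfold d at *
  rw [e, smul_mul', h1]
  rw [mul_assoc, mul_comm]

theorem sq_of_quad {A : Subgroup X} (hsq : ∀ v : V, v * v = 1) (hf : ∀ x : X, (∀ v : V, x • v = v) → x = 1)
    (hq : ∀ a ∈ A, ∀ a' ∈ A, ∀ v : V, a' • d a v = d a v) : ∀ a ∈ A, a * a = 1 := by
  intro a ha
  apply hf
  intro v
  rw [← d_eq_one hsq, d_mul_left hsq hq ha ha, hsq]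

theorem isPGroup_of_sq {A : Subgroup X} (hA : ∀ a ∈ A, a * a = 1) : IsPGroup 2 A := by
  intro a
  refine ⟨1, ?_⟩
  apply Subtype.ext
  show (a : X) ^ (2 ^ 1) = 1
  rw [pow_one, pow_two]
  exact hA a a.2

namespace TI

variable {A X₁ : Subgroup X} (h : TI A X₁)
include h

theorem exists_not_mem : ∃ g : X, g ∉ X₁ := by
  by_contra hcon
  push Not at hcon
  exact h.ne (eq_top_iff.2 fun g _ => hcon g)

theorem not_le_pCore [Finite X] : ¬ A ≤ Cfsg.pCore 2 X := by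
  intro hle
  have hO : (Cfsg.pCore 2 X).Normal := Lib.Cores.pCore_normal 2
  obtain ⟨g, hg⟩ := h.exists_not_mem
  have h1 : MulAut.conj g • A ≤ Cfsg.pCore 2 X := by
    intro x hx
    have h2 := hO.conj_mem _ (hle (mem_cj.1 hx)) g
    have e : g * (g⁻¹ * x * g) * g⁻¹ = x := by group
    rwa [e] at h2
  have h2 := sup_le hle h1
  rw [h.sup_eq_top hg, top_le_iff] at h2
  apply h.not_isPGroup
  have h3 := Lib.Cores.pCore_isPGroup (G := X) 2
  rw [h2] at h3
  exact h3.of_equiv topEquiv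

/-- `A` does not lie in `O₂(X)`: there is `a ∈ A` outside `X₁^g` for some `g ∉ X₁` -/
theorem exists_good [Finite X] (hA : IsPGroup 2 A) {a : X} (ha : a ∈ A) (hO : a ∉ Cfsg.pCore 2 X) :
    ∃ g, g ∉ X₁ ∧ a ∉ MulAut.conj g • X₁ := by
  by_contra hcon
  push Not at hcon
  exact hO (h.mem_pCore hA ha hcon)

variable (hsq : ∀ v : V, v * v = 1) (hf : ∀ x : X, (∀ v : V, x • v = v) → x = 1)
  (hq : ∀ a ∈ A, ∀ a' ∈ A, ∀ v : V, a' • d a v = d a v)
include hsq hf hq

/-- `C_V(A) ≠ C_V(X)` -/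
theorem exists_mem_cv [Finite X] : ∃ v ∈ cv V (A : Set X), v ∉ CC X V := by
  by_contra hcon
  push Not at hcon
  obtain ⟨g, hg⟩ := h.exists_not_mem
  have h1 : cv V (A : Set X) ⊔ cv V ((MulAut.conj g • A : Subgroup X) : Set X) ≤ CC X V := by
    apply sup_le hcon
    intro v hv
    have h2 := hcon _ (mem_cv_cj.1 hv)
    have h3 := mem_CC.1 h2 g
    rw [smul_inv_smul] at h3
    rw [h3]
    exact h2
  have h2 : ∀ (x : X) (v : V), d x v ∈ CC X V := fun x v => h1 (h.d_mem hsq hq hg x v)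
  have h3 := sq_of_quad (A := (⊤ : Subgroup X)) hsq hf fun a _ a' _ v => mem_CC.1 (h2 a v) a'
  apply h.not_isPGroup
  exact (isPGroup_of_sq h3).of_equiv topEquiv

/-- **L11** -/
theorem inf_le_pCore [Finite X] [Finite V] {g : X} (hg : g ∉ X₁) : A ⊓ MulAut.conj g • X₁ ≤ Cfsg.pCore 2 X := by
  have hA : IsPGroup 2 A := isPGroup_of_sq (sq_of_quad hsq hf hq)
  intro a ha
  by_contra hO
  obtain ⟨ha, hag⟩ := mem_inf.1 ha
  obtain ⟨R₀, hR₀⟩ := (isPGroup_cj hA g).exists_le_sylow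
  have hR₀le : (R₀ : Subgroup X) ≤ MulAut.conj g • X₁ := (h.cj g).sylow_le hR₀
  have hz : IsPGroup 2 (zpowers a) := hA.to_le (zpowers_le.2 ha)
  obtain ⟨k, hk, hkR⟩ := exists_sylow_le R₀ hR₀le (zpowers_le.2 hag) hz
  have haR : a ∈ ((k • R₀ : Sylow 2 X) : Subgroup X) := hkR (mem_zpowers a)
  have hAR : MulAut.conj (k * g) • A ≤ ((k • R₀ : Sylow 2 X) : Subgroup X) := by
    rw [← cj_cj, coe_smul_sylow]
    exact cj_mono hR₀
  have hkg : k * g ∉ X₁ := by
    intro hcon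
    apply hg
    have h1 := mem_cj.1 hk
    have h2 := mul_mem hcon (inv_mem h1)
    have e : k * g * (g⁻¹ * k * g)⁻¹ = g := by group
    rwa [e] at h2
  -- fixed point modulo `C`
  set U := cv V (A : Set X) ⊔ cv V ((MulAut.conj g • A : Subgroup X) : Set X) with hU
  obtain ⟨u, hu, huC⟩ := h.exists_mem_cv hsq hf hq
  have hUinv : ∀ x ∈ ((k • R₀ : Sylow 2 X) : Subgroup X), ∀ v ∈ U, x • v ∈ U := by
    intro x _ v hv
    rw [smul_eq hsq]
    exact mul_mem (h.d_mem hsq hq hg x v) hv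
  obtain ⟨v, hvU, hvC, hv⟩ := exists_fix_mod hsq (k • R₀).isPGroup' hUinv (mem_sup_left hu) huC
  -- `v ∈ C_V(A)`
  obtain ⟨g', hg', hag'⟩ := h.exists_good hA ha hO
  have hUle : ∀ y : X, y ∉ X₁ → U ≤ cv V (A : Set X) ⊔ cv V ((MulAut.conj y • A : Subgroup X) : Set X) := by
    intro y hy
    exact sup_le le_sup_left (h.cv_le hsq hq hy g)
  have h1 : v ∈ cv V (A : Set X) := h.mem_cv_of_d_mem hsq ha hag' (hUle g' hg' hvU) (hv a haR)
  -- `v ∈ C_V(A^{kg})`
  have hB := h.cj (k * g)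
  have hBq : ∀ a ∈ MulAut.conj (k * g) • A, ∀ a' ∈ MulAut.conj (k * g) • A, ∀ v : V, a' • d a v = d a v := by
    intro b hb b' hb' v
    have h2 := hq _ (mem_cj.1 hb) _ (mem_cj.1 hb') ((k * g)⁻¹ • v)
    have e1 : d b v = (k * g) • d ((k * g)⁻¹ * b * (k * g)) ((k * g)⁻¹ • v) := by
      rw [← d_conj, smul_inv_smul]
      congr 1
      group
    rw [e1]
    nth_rw 2 [← h2]
    rw [smul_smul, smul_smul]
    congr 1
    group
  have hBp := isPGroup_cj hA (k * g)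
  have hBO := hB.not_le_pCore
  obtain ⟨b, hb, hbO⟩ := Set.not_subset.1 hBO
  obtain ⟨g'', hg'', hbg''⟩ := hB.exists_good hBp hb hbO
  have hUle' : U ≤ cv V ((MulAut.conj (k * g) • A : Subgroup X) : Set X) ⊔
      cv V ((MulAut.conj g'' • MulAut.conj (k * g) • A : Subgroup X) : Set X) := by
    apply sup_le
    · have h2 := hB.cv_le hsq hBq hg'' (k * g)⁻¹
      rwa [cj_cj, inv_mul_cancel, cj_one] at h2
    · have h2 := hB.cv_le hsq hBq hg'' (g * (k * g)⁻¹)
      rwa [cj_cj, inv_mul_cancel_right] at h2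
  have h2 : v ∈ cv V ((MulAut.conj (k * g) • A : Subgroup X) : Set X) :=
    hB.mem_cv_of_d_mem hsq hb hbg'' (hUle' hvU) (hv b (hAR hb))
  exact hvC (h.inf_le hkg h1 h2)

end TI

end Cfsg.Agent.Omega.MinFF
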