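import Cfsg.Agent.Omega.MinFF.LLemma
import Cfsg.Agent.ClassTwoFusion.Quad
import Cfsg.Agent.Lib.SylowNormalInf

/-!
# OMEGA / SQ0: the K-free FF-theorem for minimal parabolics, PART 1: the quadratic `L`-lemma

`TI A X₁`: `X₁` is the unique maximal subgroup of `X` over `A`, and `A ≤ X₁^g` implies `g ∈ X₁`.
`X` acts faithfully on the elementary abelian 2-group `V`, `A` quadratically.  Then, with `C = C_V(X)`:
`C_V(A) ⊓ C_V(A^g) = C` for `g ∉ X₁`; `C_V(A) C_V(A^g)` is independent of `g` and contains `[V,X]`;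
`a ∈ A - O₂(X)` : `[v,a] ∈ C ⇒ v ∈ C_V(A)` for `v ∈ C_V(A) C_V(A^g)`; `A ⊓ X₁^g ≤ O₂(X)` for `g ∉ X₁`.
-/

set_option autoImplicit false
set_option linter.unusedSectionVars false

open Subgroup
open scoped Pointwise
open Cfsg.Agent.ClassTwoFusion.Quad (cv d mem_cv)

namespace Cfsg.Agent.Omega.MinFF

variable {X : Type*} [Group X]

/-- `X₁` is the unique maximal subgroup over `A`, with the TI property -/
structure TI (A X₁ : Subgroup X) : Prop where
  le : A ≤ X₁
  ne : X₁ ≠ ⊤
  uniq : ∀ K : Subgroup X, A ≤ K → K ≠ ⊤ → K ≤ X₁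
  ti : ∀ g : X, A ≤ MulAut.conj g • X₁ → g ∈ X₁

namespace TI

variable {A X₁ : Subgroup X} (h : TI A X₁)
include h

theorem sup_eq_top {g : X} (hg : g ∉ X₁) : A ⊔ MulAut.conj g • A = ⊤ := by
  by_contra hne
  have h1 := h.uniq _ le_sup_left hne
  have h2 : A ≤ MulAut.conj g⁻¹ • X₁ := by
    rw [← cj_le_iff]
    exact le_sup_right.trans h1
  exact hg (inv_mem_iff.1 (h.ti _ h2))

theorem cj (g : X) : TI (MulAut.conj g • A) (MulAut.conj g • X₁) where
  le := cj_mono h.le
  ne := by
    intro e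
    apply h.ne
    apply cj_inj (g := g)
    rw [e, cj_top]
  uniq := by
    intro K hK hne
    have h1 : A ≤ MulAut.conj g⁻¹ • K := by rwa [← cj_le_iff]
    have h2 : MulAut.conj g⁻¹ • K ≠ ⊤ := by
      intro e
      apply hne
      apply cj_inj (g := g⁻¹)
      rw [e, cj_top]
    have h3 := cj_mono (g := g) (h.uniq _ h1 h2)
    rwa [cj_cj, mul_inv_cancel, cj_one] at h3
  ti := by
    intro x hx
    rw [cj_le_iff, cj_cj, cj_cj] at hx
    have h1 := h.ti _ hx
    rw [mem_cj]
    simpa [mul_assoc] using h1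

theorem not_normal [Finite X] : ¬ X₁.Normal := by
  intro hn
  apply h.ne
  rw [eq_top_iff]
  intro g _
  apply h.ti
  have : MulAut.conj g • X₁ = X₁ := by
    rw [← mem_normalizer_iff_cj, normalizer_eq_top_iff.2 hn]
    trivial
  rw [this]
  exact h.le

/-- `X` is not a 2-group -/
theorem not_isPGroup [Finite X] : ¬ IsPGroup 2 X := by
  intro h2
  have hn : Group.IsNilpotent X := h2.isNilpotent
  have h1 := Group.normalizerCondition_of_isNilpotent (G := X) X₁ (lt_top_iff_ne_top.2 h.ne)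
  obtain ⟨x, hx1, hx2⟩ := SetLike.exists_of_lt h1
  apply hx2
  apply h.ti
  rw [mem_normalizer_iff_cj.1 hx1]
  exact h.le

theorem sylow_le [Finite X] {R : Sylow 2 X} (hR : A ≤ (R : Subgroup X)) : (R : Subgroup X) ≤ X₁ := by
  apply h.uniq _ hR
  intro e
  apply h.not_isPGroup
  have h1 := R.isPGroup'
  rw [e] at h1
  exact h1.of_equiv topEquiv

/-- an element of `A` lying in all conjugates of `X₁` lies in `O₂(X)` -/
theorem mem_pCore [Finite X] (hA : IsPGroup 2 A) {a : X} (ha : a ∈ A) (hall : ∀ g, g ∉ X₁ → a ∈ MulAut.conj g • X₁) :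
    a ∈ Cfsg.pCore 2 X := by
  obtain ⟨R, hR⟩ := hA.exists_le_sylow
  have hfr := Lib.SylowNormalInf.normalizer_inf_sup_eq_top R X₁.normalCore
  have h1 : (R : Subgroup X) ⊓ X₁.normalCore ≤ Cfsg.pCore 2 X := by
    apply le_pCore
    · rw [← normalizer_eq_top_iff]
      by_contra hne
      have h2 : normalizer (((R : Subgroup X) ⊓ X₁.normalCore : Subgroup X) : Set X) ≤ X₁ := by
        apply h.uniq _ _ hne
        intro x hx
        rw [mem_normalizer_iff_cj]
        ext y
        rw [mem_cj, mem_inf, mem_inf]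
        have h3 : x⁻¹ * y * x ∈ (R : Subgroup X) ↔ y ∈ (R : Subgroup X) := by
          rw [← mem_cj, cj_of_mem (hR hx)]
        have h4 : x⁻¹ * y * x ∈ X₁.normalCore ↔ y ∈ X₁.normalCore := by
          constructor
          · intro h5
            have h6 := (inferInstance : X₁.normalCore.Normal).conj_mem _ h5 x
            simpa [mul_assoc] using h6
          · intro h5
            have h6 := (inferInstance : X₁.normalCore.Normal).conj_mem _ h5 x⁻¹
            simpa [mul_assoc] using h6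
        rw [h3, h4]
      apply h.ne
      rw [eq_top_iff, ← hfr]
      exact sup_le h2 X₁.normalCore_le
    · exact R.isPGroup'.to_le inf_le_left
  apply h1
  refine mem_inf.2 ⟨hR ha, ?_⟩
  rw [normalCore]
  intro b
  by_cases hb : b⁻¹ ∈ X₁
  · have hb' : b ∈ X₁ := inv_mem_iff.1 hb
    exact mul_mem (mul_mem hb' (h.le ha)) hb
  · have h2 := hall _ hb
    rw [mem_cj, inv_inv] at h2
    exact h2

end TI

section action

variable {V : Type*} [CommGroup V] [MulDistribMulAction X V]

theorem inv_eq (hsq : ∀ v : V, v * v = 1) (v : V) : v⁻¹ = v := inv_eq_of_mul_eq_one_left (hsq v)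

theorem smul_eq (hsq : ∀ v : V, v * v = 1) (x : X) (v : V) : x • v = d x v * v := by
  unfold d
  rw [mul_assoc, hsq, mul_one]

theorem d_mul (x : X) (v w : V) : d x (v * w) = d x v * d x w := by
  unfold d
  rw [smul_mul']
  exact mul_mul_mul_comm _ _ _ _

theorem d_eq_one (hsq : ∀ v : V, v * v = 1) {x : X} {v : V} : d x v = 1 ↔ x • v = v := by
  unfold d
  rw [mul_eq_one_iff_eq_inv, inv_eq hsq]

/-- `v ↦ [v, x]` -/
def dh (x : X) : V →* V := MonoidHom.mk' (fun v => d x v) (d_mul x)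

theorem dh_apply (x : X) (v : V) : dh x v = d x v := rfl

theorem d_conj (g x : X) (v : V) : d (g * x * g⁻¹) (g • v) = g • d x v := by
  unfold d
  rw [smul_mul', smul_smul, smul_smul]
  congr 2
  group

/-- `C_V(X)` -/
abbrev CC (X V : Type*) [Group X] [CommGroup V] [MulDistribMulAction X V] : Subgroup V := cv V (Set.univ : Set X)

theorem mem_CC {v : V} : v ∈ CC X V ↔ ∀ x : X, x • v = v :=
  ⟨fun h x => h x trivial, fun h x _ => h x⟩

theorem CC_le (S : Set X) : CC X V ≤ cv V S := fun _ hv a _ => hv a trivial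

theorem smul_mem_cv_cj {g : X} {A : Subgroup X} {v : V} :
    g • v ∈ cv V ((MulAut.conj g • A : Subgroup X) : Set X) ↔ v ∈ cv V (A : Set X) := by
  constructor
  · intro hv a ha
    have h1 := hv (g * a * g⁻¹) (conj_mem_cj ha)
    rw [smul_smul, inv_mul_cancel_right, mul_smul] at h1
    exact (smul_left_cancel_iff g).1 h1
  · intro hv a ha
    have h1 : g⁻¹ * a * g ∈ A := mem_cj.1 ha
    have h2 := hv _ h1
    calc a • g • v = g • (g⁻¹ * a * g) • v := by
          rw [smul_smul, smul_smul]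
          congr 1
          group
      _ = g • v := by rw [h2]

theorem mem_cv_cj {g : X} {A : Subgroup X} {v : V} :
    v ∈ cv V ((MulAut.conj g • A : Subgroup X) : Set X) ↔ g⁻¹ • v ∈ cv V (A : Set X) := by
  rw [← smul_mem_cv_cj (g := g) (A := A), smul_inv_smul]

theorem card_cv_cj (g : X) (A : Subgroup X) :
    Nat.card (cv V ((MulAut.conj g • A : Subgroup X) : Set X)) = Nat.card (cv V (A : Set X)) := by
  refine Nat.card_congr ⟨fun v => ⟨g⁻¹ • (v : V), mem_cv_cj.1 v.2⟩, fun v => ⟨g • (v : V), smul_mem_cv_cj.2 v.2⟩, ?_, ?_⟩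
  · intro v
    ext
    exact smul_inv_smul g (v : V)
  · intro v
    ext
    exact inv_smul_smul g (v : V)

end action

namespace TI

variable {V : Type*} [CommGroup V] [MulDistribMulAction X V] {A X₁ : Subgroup X} (h : TI A X₁)
include h

/-- (1) the stabiliser of `v ∈ C_V(A) - C_V(X)` -/
theorem stab_le {v : V} (hv : v ∈ cv V (A : Set X)) (hvC : v ∉ CC X V) {x : X} (hx : x • v = v) : x ∈ X₁ := by
  have h1 : A ≤ MulAction.stabilizer X v := fun a ha => hv a ha
  have h2 : MulAction.stabilizer X v ≠ ⊤ := by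
    intro e
    apply hvC
    rw [mem_CC]
    intro y
    have : y ∈ MulAction.stabilizer X v := by rw [e]; trivial
    exact this
  exact h.uniq _ h1 h2 hx

theorem inf_le {g : X} (hg : g ∉ X₁) {v : V} (hv : v ∈ cv V (A : Set X))
    (hv' : v ∈ cv V ((MulAut.conj g • A : Subgroup X) : Set X)) : v ∈ CC X V := by
  have h1 : A ⊔ MulAut.conj g • A ≤ MulAction.stabilizer X v := sup_le (fun a ha => hv a ha) (fun a ha => hv' a ha)
  rw [h.sup_eq_top hg] at h1
  rw [mem_CC]
  intro y
  exact h1 (mem_top y)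

variable (hsq : ∀ v : V, v * v = 1)
include hsq

/-- `[V, X] ≤ C_V(A) C_V(A^g)` -/
theorem d_mem (hq : ∀ a ∈ A, ∀ a' ∈ A, ∀ v : V, a' • d a v = d a v) {g : X} (hg : g ∉ X₁) (x : X) (v : V) :
    d x v ∈ cv V (A : Set X) ⊔ cv V ((MulAut.conj g • A : Subgroup X) : Set X) := by
  set U := cv V (A : Set X) ⊔ cv V ((MulAut.conj g • A : Subgroup X) : Set X) with hU
  let K : Subgroup X :=
    { carrier := {x | ∀ v : V, d x v ∈ U}
      mul_mem' := by
        intro x y hx hy v
        have e : d (x * y) v = d x (y • v) * d y v := by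
          unfold d
          rw [mul_smul]
          calc (x • y • v) * v = (x • y • v) * ((y • v) * (y • v)) * v := by rw [hsq, mul_one]
            _ = _ := by simp only [mul_assoc]
        rw [e]
        exact mul_mem (hx _) (hy _)
      one_mem' := by
        intro v
        unfold d
        rw [one_smul, hsq]
        exact one_mem _
      inv_mem' := by
        intro x hx v
        have e : d x⁻¹ v = d x (x⁻¹ • v) := by
          unfold d
          rw [smul_inv_smul, mul_comm]
        rw [e]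
        exact hx _ }
  have h1 : A ≤ K := fun a ha v => mem_sup_left (fun b hb => hq a ha b hb v)
  have h2 : MulAut.conj g • A ≤ K := by
    intro a ha v
    apply mem_sup_right
    have h3 : g⁻¹ * a * g ∈ A := mem_cj.1 ha
    have e : d a v = g • d (g⁻¹ * a * g) (g⁻¹ • v) := by
      rw [← d_conj, smul_inv_smul]
      congr 1
      group
    rw [e, smul_mem_cv_cj]
    exact fun b hb => hq _ h3 b hb _
  have h3 := sup_le h1 h2
  rw [h.sup_eq_top hg] at h3
  exact h3 (mem_top x) v

/-- `C_V(A^k) ≤ C_V(A) C_V(A^g)` for all `k` -/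
theorem cv_le (hq : ∀ a ∈ A, ∀ a' ∈ A, ∀ v : V, a' • d a v = d a v) {g : X} (hg : g ∉ X₁) (k : X) :
    cv V ((MulAut.conj k • A : Subgroup X) : Set X) ≤
      cv V (A : Set X) ⊔ cv V ((MulAut.conj g • A : Subgroup X) : Set X) := by
  intro v hv
  have h1 := mem_cv_cj.1 hv
  have e : v = d k (k⁻¹ • v) * (k⁻¹ • v) := by
    rw [← smul_eq hsq, smul_inv_smul]
  rw [e]
  exact mul_mem (h.d_mem hsq hq hg _ _) (mem_sup_left h1)

/-- (2) -/
theorem mem_of_d_mem {g b : X} {v : V} (hv : v ∈ cv V ((MulAut.conj g • A : Subgroup X) : Set X)) (hvC : v ∉ CC X V)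
    (hb : d b v ∈ CC X V) : b ∈ MulAut.conj g • X₁ := by
  have hb1 : b • v = d b v * v := smul_eq hsq b v
  have hc : ∀ y : X, y • d b v = d b v := fun y => mem_CC.1 hb y
  have hst : ∀ y : X, y • v = v → (b * y * b⁻¹) • v = v := by
    intro y hy
    have h1 : b⁻¹ • v = d b v * v := by
      rw [inv_smul_eq_iff, smul_mul', hc, hb1, ← mul_assoc, hsq, one_mul]
    rw [mul_smul, mul_smul, h1, smul_mul', hc, hy, smul_mul', hc, hb1, ← mul_assoc, hsq, one_mul]
  have h1 : MulAut.conj (b * g) • A ≤ MulAut.conj g • X₁ := by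
    intro x hx
    apply (h.cj g).stab_le hv hvC
    rw [← cj_cj, mem_cj] at hx
    have h2 := hst _ (hv _ hx)
    have e : b * (b⁻¹ * x * b) * b⁻¹ = x := by group
    rwa [e] at h2
  rw [cj_le_iff, cj_cj] at h1
  have h2 := h.ti _ h1
  rw [mem_cj]
  have e : g⁻¹ * b * g = ((b * g)⁻¹ * g)⁻¹ := by group
  rw [e]
  exact inv_mem h2

/-- (6a) -/
theorem mem_cv_of_d_mem {a g : X} (ha : a ∈ A) (hga : a ∉ MulAut.conj g • X₁) {v : V}
    (hv : v ∈ cv V (A : Set X) ⊔ cv V ((MulAut.conj g • A : Subgroup X) : Set X)) (hd : d a v ∈ CC X V) :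
    v ∈ cv V (A : Set X) := by
  obtain ⟨v₁, h₁, v₂, h₂, rfl⟩ := mem_sup.1 hv
  have h3 : d a v₁ = 1 := (d_eq_one hsq).2 (h₁ a ha)
  rw [d_mul, h3, one_mul] at hd
  have h4 : v₂ ∈ CC X V := by
    by_contra hne
    exact hga (h.mem_of_d_mem hsq h₂ hne hd)
  exact mul_mem h₁ (CC_le _ h4)

/-- (6b) `[C_V(A^g), a] C = C_V(A)` -/
theorem exists_d_mul_mem [Finite V] (hq : ∀ a ∈ A, ∀ a' ∈ A, ∀ v : V, a' • d a v = d a v) {a g : X} (ha : a ∈ A)
    (hga : a ∉ MulAut.conj g • X₁) {w : V} (hw : w ∈ cv V (A : Set X)) :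
    ∃ v ∈ cv V ((MulAut.conj g • A : Subgroup X) : Set X), d a v * w ∈ CC X V := by
  set C := CC X V with hC
  set U := cv V (A : Set X) with hU
  set W := cv V ((MulAut.conj g • A : Subgroup X) : Set X) with hW
  let f : W →* V ⧸ C := (QuotientGroup.mk' C).comp ((dh a).comp W.subtype)
  have hker : f.ker = C.subgroupOf W := by
    ext v
    rw [MonoidHom.mem_ker, mem_subgroupOf]
    show (QuotientGroup.mk' C) (d a (v : V)) = 1 ↔ _
    rw [← MonoidHom.mem_ker, QuotientGroup.ker_mk']
    constructor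
    · intro hv
      by_contra hne
      exact hga (h.mem_of_d_mem hsq v.2 hne hv)
    · intro hv
      rw [(d_eq_one hsq).2 (mem_CC.1 hv a)]
      exact one_mem _
  have hr : f.range ≤ U.map (QuotientGroup.mk' C) := by
    rintro _ ⟨v, rfl⟩
    exact ⟨d a v, fun b hb => hq a ha b hb _, rfl⟩
  have h1 : Nat.card f.range * Nat.card f.ker = Nat.card W := by
    rw [← index_ker, mul_comm]
    exact f.ker.card_mul_index
  have h2 : Nat.card (U.map (QuotientGroup.mk' C)) * Nat.card C = Nat.card U := by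
    let f' : U →* V ⧸ C := (QuotientGroup.mk' C).comp U.subtype
    have e1 : f'.range = U.map (QuotientGroup.mk' C) := by
      ext x
      constructor
      · rintro ⟨v, rfl⟩
        exact ⟨v, v.2, rfl⟩
      · rintro ⟨v, hv, rfl⟩
        exact ⟨⟨v, hv⟩, rfl⟩
    have e2 : f'.ker = C.subgroupOf U := by
      ext v
      rw [MonoidHom.mem_ker, mem_subgroupOf]
      show (QuotientGroup.mk' C) (v : V) = 1 ↔ _
      rw [← MonoidHom.mem_ker, QuotientGroup.ker_mk']
    have e3 : Nat.card f'.range * Nat.card f'.ker = Nat.card U := by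
      rw [← index_ker, mul_comm]
      exact f'.ker.card_mul_index
    rw [← e1, ← e3, e2, Nat.card_congr (subgroupOfEquivOfLe (CC_le (V := V) (A : Set X))).toEquiv]
  have h3 : Nat.card f.ker = Nat.card C := by
    rw [hker]
    exact Nat.card_congr (subgroupOfEquivOfLe (CC_le _)).toEquiv
  have h4 : Nat.card W = Nat.card U := card_cv_cj g A
  have h5 : f.range = U.map (QuotientGroup.mk' C) := by
    apply eq_of_le_of_card_ge hr
    apply Nat.le_of_mul_le_mul_right _ (Nat.card_pos (α := C))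
    rw [h2, ← h4, ← h1, h3]
  have h6 : (QuotientGroup.mk' C) w ∈ f.range := by
    rw [h5]
    exact ⟨w, hw, rfl⟩
  obtain ⟨v, hv⟩ := h6
  refine ⟨v, v.2, ?_⟩
  have h7 : (QuotientGroup.mk' C) (d a (v : V)) = (QuotientGroup.mk' C) w := hv
  rw [QuotientGroup.mk'_apply, QuotientGroup.mk'_apply, QuotientGroup.eq, inv_eq hsq] at h7
  exact h7

end TI

end Cfsg.Agent.Omega.MinFF
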