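import Cfsg.Agent.Omega.MinFF.FFMain
import Cfsg.Agent.Omega.FF.SpreadEnd

/-!
# OMEGA / SQ0: the K-free FF-theorem for minimal parabolics, PART 1: the spread

Under the FF hypotheses, with `q = |A|`: the `q + 1` subgroups `C_V(A)`, `C_V(A^{ag})`, `a ∈ A`, cover `V`;
`N_X(A) = X₁`; `SpreadEnd.Pre A (C_V(A)) (C_V(X))`, hence `X ≅ SL₂(q)`.
-/

set_option autoImplicit false
set_option linter.unusedSectionVars false

open Subgroup
open scoped Pointwise
open Cfsg.Agent.ClassTwoFusion.Quad (cv d mem_cv)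

namespace Cfsg.Agent.Omega.MinFF

variable {X : Type*} [Group X] {V : Type*} [CommGroup V] [MulDistribMulAction X V]

/-- two conjugates of `A` with a common point -/
theorem TI.mem_of_common {A X₁ : Subgroup X} (h : TI A X₁) {y z : X} {v : V}
    (hv : v ∈ cv V ((MulAut.conj y • A : Subgroup X) : Set X)) (hv' : v ∈ cv V ((MulAut.conj z • A : Subgroup X) : Set X))
    (hvC : v ∉ CC X V) : y⁻¹ * z ∈ X₁ := by
  by_contra hcon
  apply hvC
  have h1 := mem_cv_cj.1 hv
  have h2 : y⁻¹ • v ∈ cv V ((MulAut.conj (y⁻¹ * z) • A : Subgroup X) : Set X) := by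
    rw [mem_cv_cj, smul_smul]
    have e : (y⁻¹ * z)⁻¹ * y⁻¹ = z⁻¹ := by group
    rw [e]
    exact mem_cv_cj.1 hv'
  have h3 := h.inf_le hcon h1 h2
  have h4 := mem_CC.1 h3 y
  rw [smul_inv_smul] at h4
  rw [h4]
  exact h3

namespace FFHyp

variable {A X₁ : Subgroup X} (h : FFHyp V A X₁) [Finite X] [Finite V]
include h

theorem inf_eq_bot {g : X} (hg : g ∉ X₁) : A ⊓ MulAut.conj g • X₁ = ⊥ := by
  rw [eq_bot_iff, ← h.core_eq.1]
  exact h.toTI.inf_le_pCore h.sq h.faith h.quad hg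

theorem ne_bot : A ≠ ⊥ := by
  intro e
  apply h.toTI.not_le_pCore
  rw [e]
  exact bot_le

theorem two_le : 2 ≤ Nat.card A := by
  by_contra hcon
  apply h.ne_bot
  rw [← Subgroup.card_eq_one]
  have : 0 < Nat.card A := Nat.card_pos
  omega

theorem sup_cv_eq_top {g : X} (hg : g ∉ X₁) : cv V (A : Set X) ⊔ cv V ((MulAut.conj g • A : Subgroup X) : Set X) = ⊤ := by
  obtain ⟨-, h1, h2⟩ := h.core_eq
  have h3 := card_sup_mul_inf (cv V (A : Set X)) (cv V ((MulAut.conj g • A : Subgroup X) : Set X))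
  have h4 : cv V (A : Set X) ⊓ cv V ((MulAut.conj g • A : Subgroup X) : Set X) = CC X V := by
    apply le_antisymm
    · intro v hv
      exact h.toTI.inf_le hg (mem_inf.1 hv).1 (mem_inf.1 hv).2
    · exact le_inf (CC_le _) (CC_le _)
  rw [h4, card_cv_cj] at h3
  apply eq_top_of_card_eq
  apply Nat.eq_of_mul_eq_mul_right (Nat.card_pos (α := CC X V))
  rw [h3, h1]
  nth_rw 2 [h2]
  ring

theorem reg {t : X} (ht : t ∈ A) (ht1 : t ≠ 1) {v : V} (hv : d t v ∈ CC X V) : v ∈ cv V (A : Set X) := by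
  have hA : IsPGroup 2 A := isPGroup_of_sq (sq_of_quad h.sq h.faith h.quad)
  have hO : t ∉ Cfsg.pCore 2 X := by
    rw [h.core_eq.1, mem_bot]
    exact ht1
  obtain ⟨g, hg, htg⟩ := h.toTI.exists_good hA ht hO
  apply h.toTI.mem_cv_of_d_mem h.sq ht htg _ hv
  rw [h.sup_cv_eq_top hg]
  exact mem_top v

/-- the spread -/
theorem spread {g : X} (hg : g ∉ X₁) {v : V} (hv : v ∉ cv V (A : Set X)) :
    ∃ a ∈ A, v ∈ cv V ((MulAut.conj (a * g) • A : Subgroup X) : Set X) := by
  obtain ⟨-, hc1, hc2⟩ := h.core_eq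
  set U := cv V (A : Set X) with hU
  set W := cv V ((MulAut.conj g • A : Subgroup X) : Set X) with hW
  set C := CC X V with hC
  have hWC : C ≤ W := CC_le _
  have hcW : Nat.card W = Nat.card U := card_cv_cj g A
  let S : Set V := (W : Set V) \ (C : Set V)
  let T : Set V := ((⊤ : Subgroup V) : Set V) \ (U : Set V)
  have hST : ∀ p : A × S, (p.1 : X) • (p.2 : V) ∈ T := by
    rintro ⟨⟨a, ha⟩, ⟨w, hw, hwC⟩⟩
    refine ⟨mem_top _, ?_⟩
    intro hcon
    apply hwC
    have h1 : a⁻¹ • a • w ∈ U := by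
      have h2 : a • w ∈ cv V ((MulAut.conj a • A : Subgroup X) : Set X) := by
        rw [cj_of_mem ha]
        exact hcon
      exact mem_cv_cj.1 h2
    rw [inv_smul_smul] at h1
    exact h.toTI.inf_le hg h1 hw
  let Φ : A × S → T := fun p => ⟨(p.1 : X) • (p.2 : V), hST p⟩
  have hinj : Function.Injective Φ := by
    rintro ⟨⟨a, ha⟩, ⟨w, hw, hwC⟩⟩ ⟨⟨b, hb⟩, ⟨u, hu, huC⟩⟩ heq
    have h1 : a • w = b • u := congrArg Subtype.val heq
    have h2 : a • w ∈ cv V ((MulAut.conj (a * g) • A : Subgroup X) : Set X) := by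
      rw [← cj_cj, smul_mem_cv_cj]
      exact hw
    have h3 : a • w ∈ cv V ((MulAut.conj (b * g) • A : Subgroup X) : Set X) := by
      rw [h1, ← cj_cj, smul_mem_cv_cj]
      exact hu
    have h4 : a • w ∉ CC X V := by
      intro hcon
      apply hwC
      have h5 := mem_CC.1 hcon a⁻¹
      rw [inv_smul_smul] at h5
      rw [h5]
      exact hcon
    have h5 := h.toTI.mem_of_common h2 h3 h4
    have h6 : a⁻¹ * b ∈ MulAut.conj g • X₁ := by
      rw [mem_cj]
      have e : g⁻¹ * (a⁻¹ * b) * g = (a * g)⁻¹ * (b * g) := by group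
      rw [e]
      exact h5
    have h7 : a⁻¹ * b ∈ A ⊓ MulAut.conj g • X₁ := mem_inf.2 ⟨mul_mem (inv_mem ha) hb, h6⟩
    rw [h.inf_eq_bot hg, mem_bot, inv_mul_eq_one] at h7
    subst h7
    have h8 : w = u := (smul_left_cancel_iff a).1 h1
    subst h8
    rfl
  have hcS : Nat.card S = Nat.card W - Nat.card C := by
    rw [Nat.card_coe_set_eq, Set.ncard_sdiff hWC]
    rfl
  have hcT : Nat.card T = Nat.card V - Nat.card U := by
    rw [Nat.card_coe_set_eq, Set.ncard_sdiff (by intro x _; exact mem_top x)]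
    congr 1
    rw [← Nat.card_coe_set_eq]
    exact Subgroup.card_top
  have hcard : Nat.card T ≤ Nat.card (A × S) := by
    rw [Nat.card_prod, hcS, hcT, hcW, hc1, Nat.mul_sub, ← hc2]
  obtain ⟨⟨⟨a, ha⟩, ⟨w, hw, hwC⟩⟩, hp⟩ := (hinj.bijective_of_nat_card_le hcard).2 ⟨v, mem_top v, hv⟩
  refine ⟨a, ha, ?_⟩
  have h1 : a • w = v := congrArg Subtype.val hp
  rw [← h1, ← cj_cj, smul_mem_cv_cj]
  exact hw

theorem exists_mem_cv : ∃ v ∈ cv V (A : Set X), v ∉ CC X V := h.toTI.exists_mem_cv h.sq h.faith h.quad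

/-- `X = X₁ ∪ A g X₁` -/
theorem exists_mul_mem {g : X} (hg : g ∉ X₁) {y : X} (hy : y ∉ X₁) : ∃ a ∈ A, (a * g)⁻¹ * y ∈ X₁ := by
  obtain ⟨v, hv, hvC⟩ := h.exists_mem_cv
  have h1 : y • v ∈ cv V ((MulAut.conj y • A : Subgroup X) : Set X) := smul_mem_cv_cj.2 hv
  have h2 : y • v ∉ CC X V := by
    intro hcon
    apply hvC
    have h5 := mem_CC.1 hcon y⁻¹
    rw [inv_smul_smul] at h5
    rw [h5]
    exact hcon
  have h3 : y • v ∉ cv V (A : Set X) := fun h4 => h2 (h.toTI.inf_le hy h4 h1)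
  obtain ⟨a, ha, h4⟩ := h.spread hg h3
  exact ⟨a, ha, h.toTI.mem_of_common h4 h1 h2⟩

theorem smul_mem {k : X} (hk : k ∈ X₁) {v : V} (hv : v ∈ cv V (A : Set X)) : k • v ∈ cv V (A : Set X) := by
  by_contra hcon
  obtain ⟨g, hg⟩ := h.toTI.exists_not_mem
  obtain ⟨a, ha, h1⟩ := h.spread hg hcon
  have h2 : k • v ∈ cv V ((MulAut.conj k • A : Subgroup X) : Set X) := smul_mem_cv_cj.2 hv
  have h3 : k • v ∉ CC X V := fun h4 => hcon (CC_le _ h4)
  have h4 := h.toTI.mem_of_common h2 h1 h3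
  apply hg
  have h5 := mul_mem (inv_mem (h.toTI.le ha)) (mul_mem hk h4)
  have e : a⁻¹ * (k * (k⁻¹ * (a * g))) = g := by group
  rwa [e] at h5

/-- the largest group acting quadratically through `C_V(A)` -/
def DD (A : Subgroup X) (V : Type*) [CommGroup V] [MulDistribMulAction X V] (hsq : ∀ v : V, v * v = 1) : Subgroup X where
  carrier := {y | (∀ u ∈ cv V (A : Set X), y • u = u) ∧ ∀ v : V, d y v ∈ cv V (A : Set X)}
  mul_mem' := by
    rintro x y ⟨hx, hx'⟩ ⟨hy, hy'⟩
    refine ⟨fun u hu => by rw [mul_smul, hy u hu, hx u hu], fun v => ?_⟩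
    have e : d (x * y) v = d x (y • v) * d y v := by
      unfold d
      rw [mul_smul]
      calc (x • y • v) * v = (x • y • v) * ((y • v) * (y • v)) * v := by rw [hsq, mul_one]
        _ = _ := by simp only [mul_assoc]
    rw [e]
    exact mul_mem (hx' _) (hy' _)
  one_mem' := by
    refine ⟨fun u _ => one_smul _ u, fun v => ?_⟩
    unfold d
    rw [one_smul, hsq]
    exact one_mem _
  inv_mem' := by
    rintro x ⟨hx, hx'⟩
    refine ⟨fun u hu => by rw [inv_smul_eq_iff, hx u hu], fun v => ?_⟩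
    have e : d x⁻¹ v = d x (x⁻¹ • v) := by
      unfold d
      rw [smul_inv_smul, mul_comm]
    rw [e]
    exact hx' _

theorem A_le_DD : A ≤ DD A V h.sq := fun a ha => ⟨fun _ hu => hu a ha, fun v b hb => h.quad a ha b hb v⟩

omit [Finite X] [Finite V] in
theorem cv_DD : cv V ((DD A V h.sq : Subgroup X) : Set X) = cv V (A : Set X) := by
  apply le_antisymm
  · intro v hv a ha
    exact hv a ⟨fun _ hu => hu a ha, fun v b hb => h.quad a ha b hb v⟩
  · intro v hv y hy
    exact hy.1 v hv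

theorem DD_le : DD A V h.sq ≤ X₁ := by
  obtain ⟨v, hv, hvC⟩ := h.exists_mem_cv
  intro y hy
  exact h.toTI.stab_le hv hvC (hy.1 v hv)

theorem TI_DD : TI (DD A V h.sq) X₁ where
  le := h.DD_le
  ne := h.toTI.ne
  uniq K hK hne := h.toTI.uniq K (h.A_le_DD.trans hK) hne
  ti g hg := h.toTI.ti g (h.A_le_DD.trans hg)

theorem DD_eq : DD A V h.sq = A := by
  have hD := h.TI_DD
  have hq : ∀ a ∈ DD A V h.sq, ∀ a' ∈ DD A V h.sq, ∀ v : V, a' • d a v = d a v := fun a ha a' ha' v => ha'.1 _ (ha.2 v)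
  obtain ⟨g, hg⟩ := h.toTI.exists_not_mem
  obtain ⟨v, hv, hvC⟩ := h.exists_mem_cv
  have hDg : DD A V h.sq ⊓ MulAut.conj g • X₁ = ⊥ := by
    rw [eq_bot_iff, ← h.core_eq.1]
    exact hD.inf_le_pCore h.sq h.faith hq hg
  have h1 : g • v ∈ cv V ((MulAut.conj g • A : Subgroup X) : Set X) := smul_mem_cv_cj.2 hv
  have h2 : g • v ∉ CC X V := by
    intro hcon
    apply hvC
    have h5 := mem_CC.1 hcon g⁻¹
    rw [inv_smul_smul] at h5
    rw [h5]
    exact hcon
  have h3 : Nat.card (DD A V h.sq) * Nat.card (CC X V) ≤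
      Nat.card (DD A V h.sq ⊓ MulAut.conj g • X₁ : Subgroup X) * Nat.card (cv V (A : Set X)) := by
    apply card_le_of_hom (fun a => d (a : X) (g • v))
    · intro a b
      exact d_mul_left h.sq hq a.2 b.2 _
    · intro a
      exact a.2.2 _
    · exact CC_le _
    · intro a ha
      exact h.toTI.mem_of_d_mem h.sq h1 h2 ha
  rw [hDg, card_bot, one_mul, h.core_eq.2.2] at h3
  have h4 := Nat.le_of_mul_le_mul_right h3 (Nat.card_pos (α := CC X V))
  exact (eq_of_le_of_card_ge h.A_le_DD h4).symm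

theorem normalizer_eq : normalizer (A : Set X) = X₁ := by
  apply le_antisymm
  · intro x hx
    apply h.toTI.ti
    have h1 : A ≤ MulAut.conj x • A := (mem_normalizer_iff_cj.1 hx).ge
    exact h1.trans (cj_mono h.toTI.le)
  · intro x hx
    rw [mem_normalizer_iff_cj]
    apply eq_of_le_of_card_ge _ (card_cj x A).ge
    intro y hy
    rw [mem_cj] at hy
    rw [← h.DD_eq] at hy ⊢
    have h2 : ∀ v, v ∈ cv V (A : Set X) ↔ x⁻¹ • v ∈ cv V (A : Set X) := by
      intro v
      constructor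
      · exact h.smul_mem (inv_mem hx)
      · intro hv
        have h3 := h.smul_mem hx hv
        rwa [smul_inv_smul] at h3
    constructor
    · intro u hu
      have h3 := hy.1 (x⁻¹ • u) ((h2 u).1 hu)
      have h4 : x • (x⁻¹ * y * x) • x⁻¹ • u = x • x⁻¹ • u := by rw [h3]
      rw [smul_smul, smul_smul, smul_inv_smul] at h4
      have e : x * (x⁻¹ * y * x) * x⁻¹ = y := by group
      rwa [e] at h4
    · intro v
      have h3 := hy.2 (x⁻¹ • v)
      have e : d y v = x • d (x⁻¹ * y * x) (x⁻¹ • v) := by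
        rw [← d_conj, smul_inv_smul]
        congr 1
        group
      rw [e]
      exact h.smul_mem hx h3

theorem index_cv : (cv V (A : Set X)).index = Nat.card A := by
  obtain ⟨-, h1, -⟩ := h.core_eq
  have h2 := (cv V (A : Set X)).card_mul_index
  apply Nat.eq_of_mul_eq_mul_left (Nat.card_pos (α := cv V (A : Set X)))
  rw [h2, h1, mul_comm]

theorem relIndex_CC : (CC X V).relIndex (cv V (A : Set X)) = Nat.card A := by
  obtain ⟨-, -, h1⟩ := h.core_eq
  have h2 : Nat.card (CC X V) * (CC X V).relIndex (cv V (A : Set X)) = Nat.card (cv V (A : Set X)) := by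
    have h3 := ((CC X V).subgroupOf (cv V (A : Set X))).card_mul_index
    rwa [Nat.card_congr (subgroupOfEquivOfLe (CC_le (V := V) (A : Set X))).toEquiv] at h3
  apply Nat.eq_of_mul_eq_mul_left (Nat.card_pos (α := CC X V))
  rw [h2, h1, mul_comm]

theorem pre : Cfsg.Agent.Omega.FF.SpreadEnd.Pre A (cv V (A : Set X)) (CC X V) where
  comm := mul_comm
  sq := h.sq
  faith := h.faith
  hU _ := Iff.rfl
  hC _ := mem_CC
  sqT := sq_of_quad h.sq h.faith h.quad
  quad t ht v b hb := h.quad t ht b hb v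
  reg t ht ht1 v hv := h.reg ht ht1 (by rw [(d_eq_one h.sq).2 hv]; exact one_mem _)
  two_le := h.two_le
  hVU := h.index_cv
  hUC := h.relIndex_CC
  gen K hK := by
    obtain ⟨g, hg⟩ := h.toTI.exists_not_mem
    rw [eq_top_iff, ← h.toTI.sup_eq_top hg]
    apply sup_le
    · intro t ht
      have := hK 1 t ht
      simpa using this
    · intro t ht
      have h1 := hK g _ (mem_cj.1 ht)
      have e : g * (g⁻¹ * t * g) * g⁻¹ = t := by group
      rwa [e] at h1
  ti g hg v hv hgv := by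
    rw [h.normalizer_eq] at hg
    exact h.toTI.inf_le hg hgv (smul_mem_cv_cj.2 hv)
  mv t ht ht1 := by
    by_contra hcon
    push Not at hcon
    apply ht1
    apply h.faith
    intro v
    have h1 : v ∈ cv V (A : Set X) := h.reg ht ht1 (hcon v)
    exact h1 t ht

end FFHyp

end Cfsg.Agent.Omega.MinFF
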